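import Groth.Agent.PicPn.Field
import Groth.Agent.PicLaw.Basic
import Groth.Agent.ProjTwist.Tensor
import Groth.Agent.ProjTwist.Pn.Sections

/-!
# Every invertible module on projective space over a field is a twist of the structure sheaf
-/

set_option autoImplicit false
universe u

open AlgebraicGeometry CategoryTheory MvPolynomial TopologicalSpace Opposite
open Groth.Agent.QCoh Groth.Agent.Props.GenLocus

noncomputable section

namespace Groth.Agent.PicPn

open Groth.Agent.ProjTwist Twist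

variable {n : ℕ} {K : Type u} [CommRing K] [IsDomain K] [UniqueFactorizationMonoid K]

/-- A unit on the overlap of two charts is a constant times a power of the ratio of coordinates. -/
theorem exists_unit_val (i j : Fin (n + 1)) {V : (CohB1.ProjSpace n K).Opens}
    (hV : V = stdOpen n K i ⊓ stdOpen n K j)
    (hη : (η : ProjectiveSpectrum (CohB1.polyGrading n K)) ∈ V)
    (c : Γ(CohB1.ProjSpace n K, V)) (hc : IsUnit c) :
    ∃ (r : Kˣ) (d : ℤ), val hη c = toFr (C (r : K)) * mono (d • (Pi.single j 1 - Pi.single i 1)) := by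
  have hV' : V = (dPlus (CohB1.polyGrading n K) (X i * X j) : (CohB1.ProjSpace n K).Opens) := by
    rw [hV]; exact (Proj.basicOpen_mul (CohB1.polyGrading n K) (X i) (X j)).symm
  subst hV'
  have hf : (X i * X j : P n K) ∈ CohB1.polyGrading n K 2 :=
    (mem_homogeneousSubmodule 2 _).mpr ((isHomogeneous_X K i).mul (isHomogeneous_X K j))
  have hrep : ∀ c : Γ(CohB1.ProjSpace n K, (dPlus (CohB1.polyGrading n K) (X i * X j))),
      ∃ (N : ℕ) (a : P n K), a.IsHomogeneous (N * 2) ∧
        val hη c = toFr a / toFr ((X i * X j) ^ N) := fun c => by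
    obtain ⟨d, N, a, ha, hd, hs⟩ := exists_frac (𝒜 := CohB1.polyGrading n K) hf two_pos
      (X_mem_polyGrading n K i) (X_mem_polyGrading n K j) rfl 0
      ((show O (𝒜 := CohB1.polyGrading n K) (op (dPlus (CohB1.polyGrading n K) (X i * X j))) from c) •
        oneSec (CohB1.polyGrading n K) (op (dPlus (CohB1.polyGrading n K) (X i * X j))))
    have e := hs ⟨η, hη⟩
    rw [smul_coe, oneSec_coe, mul_one] at e
    refine ⟨N, a, ?_, (congrArg ψ e).trans (ψ_mk _ _)⟩
    have hdN : d = N * 2 := by omega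
    exact hdN ▸ (mem_homogeneousSubmodule _ _).mp ha
  obtain ⟨c', hc'⟩ := isUnit_iff_exists_inv.mp hc
  obtain ⟨N, a, ha, hva⟩ := hrep c
  obtain ⟨N', a', ha', hva'⟩ := hrep c'
  have hx0 : (X i * X j : P n K) ≠ 0 := mul_ne_zero (X_ne_zero i) (X_ne_zero j)
  have h1 : val hη c * val hη c' = 1 := by rw [← val_mul, hc', val_one]
  rw [hva, hva', div_mul_div_comm, div_eq_one_iff_eq
    (mul_ne_zero (toFr_ne_zero (pow_ne_zero _ hx0)) (toFr_ne_zero (pow_ne_zero _ hx0)))] at h1
  simp only [toFr, ← map_mul, ← pow_add] at h1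
  have h2 := IsFractionRing.injective (P n K) (Fr n K) h1
  have hdvd : a ∣ (X i : P n K) ^ (N + N') * (X j : P n K) ^ (N + N') :=
    ⟨a', by rw [← mul_pow, h2]⟩
  obtain ⟨a₁, a₂, hd₁, hd₂, rfl⟩ := exists_dvd_and_dvd_of_dvd_mul hdvd
  obtain ⟨s, -, hs⟩ := (dvd_prime_pow (X_prime (R := K) (i := i)) _).mp hd₁
  obtain ⟨t, -, ht⟩ := (dvd_prime_pow (X_prime (R := K) (i := j)) _).mp hd₂
  obtain ⟨v, hv⟩ := (hs.mul_mul ht).symm
  obtain ⟨r, hr, hvr⟩ := (MvPolynomial.isUnit_iff_eq_C_of_isReduced (P := (v : P n K))).mp v.isUnit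
  have hr0 : r ≠ 0 := hr.ne_zero
  have hform : a₁ * a₂ = C r * ((X i : P n K) ^ s * X j ^ t) := by rw [← hv, hvr]; ring
  have hne : (C r * ((X i : P n K) ^ s * X j ^ t)) ≠ 0 :=
    mul_ne_zero (fun h => hr0 (C_injective _ _ (h.trans (map_zero _).symm)))
      (mul_ne_zero (pow_ne_zero _ (X_ne_zero i)) (pow_ne_zero _ (X_ne_zero j)))
  have hst : s + t = N * 2 := by
    refine IsHomogeneous.inj_right ?_ (hform ▸ ha) hne
    simpa using (isHomogeneous_C (Fin (n + 1)) r).mul
      (((isHomogeneous_X K i).pow s).mul ((isHomogeneous_X K j).pow t))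
  refine ⟨hr.unit, (t : ℤ) - N, ?_⟩
  rw [IsUnit.unit_spec]
  rw [hva, hform, div_eq_iff (toFr_ne_zero (pow_ne_zero _ hx0))]
  have hX : ∀ (k : Fin (n + 1)) (m : ℕ), toFr ((X k : P n K) ^ m) = mono (Pi.single k (m : ℤ)) :=
    fun k m => by rw [mono_single, zpow_natCast, toFr, map_pow]
  have e2 : toFr ((X i * X j : P n K) ^ N) = mono (Pi.single i (N : ℤ) + Pi.single j (N : ℤ)) := by
    rw [mono_add, ← hX, ← hX, mul_pow, toFr, map_mul]
  have e1 : toFr (C r * ((X i : P n K) ^ s * X j ^ t)) =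
      toFr (C r) * mono (Pi.single i (s : ℤ) + Pi.single j (t : ℤ)) := by
    rw [mono_add, ← hX, ← hX]
    simp only [toFr, map_mul]
  rw [e1, e2, mul_assoc, ← mono_add]
  congr 2
  funext k
  simp only [Pi.add_apply, Pi.smul_apply, Pi.sub_apply, Pi.single_apply, smul_eq_mul]
  have hst' : (s : ℤ) + t = N * 2 := by exact_mod_cast hst
  by_cases hi : k = i <;> by_cases hj : k = j <;> simp [hi, hj] <;> (try subst_vars) <;>
    (try simp_all) <;> linarith

variable {M : (CohB1.ProjSpace n K).Modules}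

/-- The generator `X i ^ d` of `O(d)` on a chart. -/
def pg (d : ℤ) (i : Fin (n + 1)) : Γ(Twist.twistProjSpace n K d, stdOpen n K i) :=
  powGen (X_mem_polyGrading n K i) d

theorem isGen_pg (d : ℤ) (i : Fin (n + 1)) :
    IsGen (Twist.twistProjSpace n K d) (stdOpen n K i) (pg d i) :=
  isGen_powGen (X_mem_polyGrading n K i) d

/-- The transition between generators on two charts. -/
theorem exists_transition (g : ∀ i, Γ(M, stdOpen n K i)) (hg : ∀ i, IsGen M (stdOpen n K i) (g i))
    (i j : Fin (n + 1)) :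
    ∃ (r : Kˣ) (d : ℤ) (u : Γ(CohB1.ProjSpace n K, stdOpen n K i ⊓ stdOpen n K j)),
      res M inf_le_right (g j) = u • res M inf_le_left (g i) ∧
      val (n := n) (K := K) (V := stdOpen n K i ⊓ stdOpen n K j) ⟨η_mem_stdOpen i, η_mem_stdOpen j⟩ u =
        toFr (C (r : K)) * mono (d • (Pi.single j 1 - Pi.single i 1)) := by
  obtain ⟨u, hu, -⟩ := (hg i).exists_eq inf_le_left
    (res M (inf_le_right : stdOpen n K i ⊓ stdOpen n K j ≤ _) (g j))
  obtain ⟨u', hu', -⟩ := (hg j).exists_eq inf_le_right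
    (res M (inf_le_left : stdOpen n K i ⊓ stdOpen n K j ≤ _) (g i))
  have huu : u' * u = 1 := (hg i).injective inf_le_left (by rw [mul_smul, ← hu, ← hu', one_smul])
  obtain ⟨r, d, hv⟩ := exists_unit_val i j rfl ⟨η_mem_stdOpen i, η_mem_stdOpen j⟩ u
    (IsUnit.of_mul_eq_one _ ((mul_comm _ _).trans huu))
  exact ⟨r, d, u, hu, hv⟩

/-- The common exponent. -/
theorem exists_degree (g : ∀ i, Γ(M, stdOpen n K i)) (hg : ∀ i, IsGen M (stdOpen n K i) (g i)) :
    ∃ (d : ℤ) (r : Fin (n + 1) → Kˣ),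
      ∀ (i j : Fin (n + 1)) (V : (CohB1.ProjSpace n K).Opens) (hi : V ≤ stdOpen n K i)
        (hj : V ≤ stdOpen n K j) (hη : (η : ProjectiveSpectrum (CohB1.polyGrading n K)) ∈ V)
        (u : Γ(CohB1.ProjSpace n K, V)), res M hj (g j) = u • res M hi (g i) →
        val hη u = toFr (C ((r j / r i : Kˣ) : K)) * mono (d • (Pi.single j 1 - Pi.single i 1)) := by
  choose r d u hu hv using exists_transition g hg
  -- any transition has the value of the chosen one
  have huniq : ∀ i j (V : (CohB1.ProjSpace n K).Opens) (hi : V ≤ stdOpen n K i)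
      (hj : V ≤ stdOpen n K j) (hη : (η : ProjectiveSpectrum (CohB1.polyGrading n K)) ∈ V)
      (w : Γ(CohB1.ProjSpace n K, V)), res M hj (g j) = w • res M hi (g i) →
      val hη w = toFr (C (r i j : K)) * mono (d i j • (Pi.single j 1 - Pi.single i 1)) := by
    intro i j V hi hj hη w hw
    have h1 := congrArg (res M (le_inf hi hj)) (hu i j)
    rw [res_smul, res_res, res_res] at h1
    rw [(hg i).injective hi (hw.symm.trans h1), val_res, hv]
  have hcoc : ∀ i j l, toFr (C (r i l : K) : P n K) * mono (d i l • (Pi.single l 1 - Pi.single i 1)) =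
      toFr (C (r j l : K)) * mono (d j l • (Pi.single l 1 - Pi.single j 1)) *
        (toFr (C (r i j : K)) * mono (d i j • (Pi.single j 1 - Pi.single i 1))) := by
    intro i j l
    let V := stdOpen n K i ⊓ stdOpen n K j ⊓ stdOpen n K l
    have hη : (η : ProjectiveSpectrum (CohB1.polyGrading n K)) ∈ V :=
      ⟨⟨η_mem_stdOpen i, η_mem_stdOpen j⟩, η_mem_stdOpen l⟩
    have hi : V ≤ stdOpen n K i := inf_le_left.trans inf_le_left
    have hj : V ≤ stdOpen n K j := inf_le_left.trans inf_le_right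
    have hl : V ≤ stdOpen n K l := inf_le_right
    obtain ⟨a, ha, -⟩ := (hg j).exists_eq hj (res M hl (g l))
    obtain ⟨b, hb, -⟩ := (hg i).exists_eq hi (res M hj (g j))
    have h := huniq i l V hi hl hη (a * b) (by rw [ha, hb, mul_smul])
    rw [val_mul, huniq j l V hj hl hη a ha, huniq i j V hi hj hη b hb] at h
    exact h.symm
  -- the exponent common to all pairs through the first chart
  have h0 : ∀ i j, i ≠ 0 → j ≠ 0 → d 0 i = d 0 j := by
    intro i j hi hj
    by_cases hij : i = j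
    · rw [hij]
    have h := hcoc 0 i j
    rw [mul_mul_mul_comm, ← mono_add, toFr, toFr, ← map_mul, ← C_mul] at h
    have he := (eq_of_mono_eq (r 0 j).ne_zero h).1
    have e1 := congrFun he i
    have e2 := congrFun he j
    simp [Pi.single_apply, hi, hj, hij, Ne.symm hij] at e1 e2
    linarith
  obtain ⟨D, hD⟩ : ∃ D : ℤ, ∀ j, j ≠ 0 → d 0 j = D := by
    by_cases h : ∃ j₁ : Fin (n + 1), j₁ ≠ 0
    · obtain ⟨j₁, h₁⟩ := h
      exact ⟨d 0 j₁, fun j hj => h0 j j₁ hj h₁⟩
    · exact ⟨0, fun j hj => absurd ⟨j, hj⟩ h⟩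
  refine ⟨D, r 0, fun i j V hi hj hη w hw => ?_⟩
  rw [huniq i j V hi hj hη w hw]
  have hD' : ∀ j, d 0 j • (Pi.single j (1 : ℤ) - Pi.single 0 1 : Fin (n + 1) → ℤ) =
      D • (Pi.single j 1 - Pi.single 0 1) := fun j => by
    by_cases hj : j = 0
    · subst hj; simp
    · rw [hD j hj]
  have h := hcoc 0 i j
  rw [hD', hD'] at h
  have hC : toFr (C (r 0 i : K) : P n K) ≠ 0 :=
    toFr_ne_zero fun h => (r 0 i).ne_zero (C_injective _ _ (h.trans (map_zero _).symm))
  refine mul_right_cancel₀ (mul_ne_zero hC (mono_ne_zero (D • (Pi.single i 1 - Pi.single 0 1)))) ?_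
  rw [← h, mul_mul_mul_comm, ← mono_add, toFr, toFr, toFr, ← map_mul, ← C_mul,
    ← Units.val_mul, div_mul_cancel, ← smul_add, sub_add_sub_cancel]

/-- The value of `X k ^ d`. -/
theorem key1 (d : ℤ) (k : Fin (n + 1)) (hk : (X k : P n K) ∉ (η (n := n) (K := K)).asHomogeneousIdeal) :
      ψ ((unitAt (𝒜 := CohB1.polyGrading n K) η hk ^ d : (Loc (CohB1.polyGrading n K) η)ˣ) :
        Loc (CohB1.polyGrading n K) η) = toFr (X k : P n K) ^ d := by
  cases d with
  | ofNat m =>
    simp only [Int.ofNat_eq_natCast, zpow_natCast, Units.val_pow_eq_pow_val, map_pow]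
    exact congrArg (· ^ m) (ψ_algebraMap (X k))
  | negSucc m =>
    simp only [zpow_negSucc]
    rw [map_units_inv, Units.val_pow_eq_pow_val, map_pow]
    exact congrArg (fun z => (z ^ (m+1))⁻¹) (ψ_algebraMap (X k))

/-- The transitions of the twist. -/
theorem val_powGen (d : ℤ) (i j : Fin (n + 1)) (V : (CohB1.ProjSpace n K).Opens)
    (hi : V ≤ stdOpen n K i) (hj : V ≤ stdOpen n K j)
    (hη : (η : ProjectiveSpectrum (CohB1.polyGrading n K)) ∈ V) (u : Γ(CohB1.ProjSpace n K, V))
    (h : res (Twist.twistProjSpace n K d) hj (pg d j) =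
      u • res (Twist.twistProjSpace n K d) hi (pg d i)) :
    val hη u = mono (d • (Pi.single j 1 - Pi.single i 1)) := by
  have e : ((unitAt (𝒜 := CohB1.polyGrading n K) η (hj hη) ^ d : (Loc (CohB1.polyGrading n K) η)ˣ) :
      Loc (CohB1.polyGrading n K) η) = valAt (𝒜 := CohB1.polyGrading n K) u η hη *
        ((unitAt (𝒜 := CohB1.polyGrading n K) η (hi hη) ^ d : (Loc (CohB1.polyGrading n K) η)ˣ) :
          Loc (CohB1.polyGrading n K) η) := by
    have h' : (unitSec (X_mem_polyGrading n K j) d (op V) (fun x => hj x.2) :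
        sectN (𝒜 := CohB1.polyGrading n K) d (op V)) =
        (show O (𝒜 := CohB1.polyGrading n K) (op V) from u) •
          unitSec (X_mem_polyGrading n K i) d (op V) (fun x => hi x.2) := h
    have h1 := congrArg (fun s : sectN (𝒜 := CohB1.polyGrading n K) d (op V) => (s.1 ⟨η, hη⟩).1) h'
    rw [smul_coe, unitSec_coe, unitSec_coe] at h1
    exact h1
  have key : ∀ (k : Fin (n + 1)) (hk : (X k : P n K) ∉ (η (n := n) (K := K)).asHomogeneousIdeal),
      ψ ((unitAt (𝒜 := CohB1.polyGrading n K) η hk ^ d : (Loc (CohB1.polyGrading n K) η)ˣ) :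
        Loc (CohB1.polyGrading n K) η) = mono (Pi.single k d) := fun k hk => by
    rw [mono_single]
    exact key1 d k hk
  have h2 := congrArg ψ e
  rw [map_mul, key, key] at h2
  refine mul_right_cancel₀ (mono_ne_zero (Pi.single i d)) (h2.symm.trans ?_)
  rw [← mono_add]
  congr 1
  funext k
  simp only [Pi.add_apply, Pi.smul_apply, Pi.sub_apply, Pi.single_apply, smul_eq_mul]
  split_ifs <;> ring

/-- A constant as a function. -/
theorem exists_const (i : Fin (n + 1)) (r : Kˣ) :
    ∃ c : Γ(CohB1.ProjSpace n K, stdOpen n K i), IsUnit c ∧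
      val (η_mem_stdOpen i) c = toFr (C (r : K)) := by
  have hC : ∀ s : K, (C s : P n K) ∈ CohB1.polyGrading n K 0 := fun s =>
    (mem_homogeneousSubmodule 0 _).mpr (isHomogeneous_C _ s)
  have h1 : stdOpen n K i ≤ Proj.basicOpen (CohB1.polyGrading n K) (C 1 : P n K) := fun x _ =>
    (Proj.mem_basicOpen _ _ _).mpr fun h => x.isPrime.ne_top
      ((Ideal.eq_top_iff_one _).mpr (by simpa using h))
  let c : K → Γ(CohB1.ProjSpace n K, stdOpen n K i) := fun s =>
    fracFun (𝒜 := CohB1.polyGrading n K) (hC s) (hC 1) h1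
  have hval : ∀ s, val (η_mem_stdOpen i) (c s) = toFr (C s) := fun s => by
    refine (congrArg ψ (valAt_fracFun (𝒜 := CohB1.polyGrading n K) _ _ h1 η _)).trans ?_
    rw [ψ_mk]
    simp [toFr]
  refine ⟨c r, IsUnit.of_mul_eq_one (c (r⁻¹ : Kˣ)) (val_injective (η_mem_stdOpen i) ?_), hval r⟩
  rw [val_mul, hval, hval, val_one, toFr, toFr, ← map_mul, ← C_mul, ← Units.val_mul, mul_inv_cancel, Units.val_one, map_one, map_one]

/-- Every invertible module is a twist. -/
theorem exists_iso_twist (hM : PicF.IsInvertible M) :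
    ∃ d : ℤ, Nonempty (M ≅ Twist.twistProjSpace n K d) := by
  choose g hg using fun i => exists_gen_stdOpen n K i hM
  obtain ⟨d, r, hv⟩ := exists_degree g hg
  choose c hcu hc using fun i => exists_const i (r i)⁻¹
  refine ⟨d, PicLaw.nonempty_iso_of_transition (fun i => stdOpen n K i)
    (fun x => Opens.mem_iSup.mp ((iSup_stdOpen n K).ge trivial))
    (fun i => c i • g i) (fun i => (hg i).smul_unit (hcu i))
    (fun i => pg d i) (fun i => isGen_pg d i) ?_⟩
  intro i j V hi hj
  by_cases hV : ∃ x, x ∈ V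
  · obtain ⟨x, hx⟩ := hV
    have hη := η_mem hx
    obtain ⟨u, hu, -⟩ := (isGen_pg d i).exists_eq hi
      (res _ hj (pg d j))
    obtain ⟨w, hw, -⟩ := (hg i).exists_eq hi (res M hj (g j))
    refine ⟨u, ?_, hu⟩
    rw [res_smul, res_smul, hw, smul_smul, smul_smul]
    refine congrArg (· • res M hi (g i)) (val_injective hη ?_)
    rw [val_mul, val_mul, val_res, val_res, hc, hc, hv i j V hi hj hη w hw,
      val_powGen d i j V hi hj hη u hu, toFr, toFr, toFr, ← mul_assoc, ← map_mul, ← C_mul,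
      mul_comm (mono _), ← Units.val_mul, show (r j)⁻¹ * (r j / r i) = (r i)⁻¹ by
        rw [← mul_div_assoc, inv_mul_cancel, one_div]]
  · refine ⟨1, ?_, ?_⟩ <;>
      exact TopCat.Presheaf.section_ext ⟨_, (Scheme.Modules.isSheaf _)⟩ V _ _ fun x hx => absurd ⟨x, hx⟩ hV

/-- Twists by different degrees differ. -/
theorem degree_unique (hn : 1 ≤ n) (d d' : ℤ)
    (e : Twist.twistProjSpace n K d ≅ Twist.twistProjSpace n K d') : d = d' := by
  have hgen : ∀ i : Fin (n + 1), ∃ (r : Kˣ) (u : Γ(CohB1.ProjSpace n K, stdOpen n K i)),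
      e.hom.app (stdOpen n K i) (pg d i) =
        u • pg d' i ∧ val (η_mem_stdOpen i) u = toFr (C (r : K)) := fun i => by
    obtain ⟨u, hu, -⟩ := (isGen_pg d' i).exists_eq le_rfl
      (e.hom.app (stdOpen n K i) (pg d i))
    obtain ⟨u', hu', -⟩ := (isGen_pg d i).exists_eq le_rfl
      (e.inv.app (stdOpen n K i) (pg d' i))
    have hinv : e.inv.app (stdOpen n K i) (e.hom.app (stdOpen n K i) (pg d i)) =
        pg d i :=
      congrArg (fun φ => Scheme.Modules.Hom.app φ (stdOpen n K i) (pg d i))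
        e.hom_inv_id
    rw [res_self] at hu hu'
    have huu : u * u' = 1 := (isGen_pg d i).injective le_rfl (by
      rw [res_self, one_smul, mul_smul]
      refine Eq.trans ?_ hinv
      rw [hu, Scheme.Modules.Hom.app_smul, hu'])
    obtain ⟨r, z, hz⟩ := exists_unit_val i i (inf_idem _).symm (η_mem_stdOpen i) u
      (IsUnit.of_mul_eq_one _ huu)
    exact ⟨r, u, hu, by rw [hz, sub_self, smul_zero, mono_zero, mul_one]⟩
  choose r u hu hv using hgen
  let i : Fin (n + 1) := 0
  let j : Fin (n + 1) := ⟨1, by omega⟩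
  let V := stdOpen n K i ⊓ stdOpen n K j
  have hη : (η : ProjectiveSpectrum (CohB1.polyGrading n K)) ∈ V := ⟨η_mem_stdOpen i, η_mem_stdOpen j⟩
  obtain ⟨a, ha, -⟩ := (isGen_pg d i).exists_eq
    (inf_le_left : V ≤ stdOpen n K i) (res _ (inf_le_right : V ≤ stdOpen n K j)
      (pg d j))
  obtain ⟨b, hb, -⟩ := (isGen_pg d' i).exists_eq
    (inf_le_left : V ≤ stdOpen n K i) (res _ (inf_le_right : V ≤ stdOpen n K j)
      (pg d' j))
  have h := congrArg (e.hom.app V) ha
  erw [Scheme.Modules.Hom.app_smul, app_res, app_res, hu, hu] at h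
  rw [res_smul, res_smul] at h
  erw [hb] at h
  rw [smul_smul, smul_smul] at h
  have h1 := congrArg (val hη) ((isGen_pg d' i).injective inf_le_left h)
  rw [val_mul, val_mul, val_res, val_res, hv, hv, val_powGen d i j V _ _ hη a ha,
    val_powGen d' i j V _ _ hη b hb, mul_comm (mono _)] at h1
  have := congrFun (eq_of_mono_eq (r j).ne_zero h1).1 j
  have hji : j ≠ i := by simp [i, j, Fin.ext_iff]
  simpa [Pi.single_apply, hji] using this.symm

end Groth.Agent.PicPn
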