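import Groth.Agent.PicPn.LineChart
import Groth.Agent.S10849
import Groth.Agent.KSMod.Isotypic
import Groth.Agent.KSMod.Invertible
import Groth.Agent.S18573
import Groth.Agent.GITLib.RigidGroup
import Groth.Agent.CohOps.PnSmooth
import Groth.Agent.ProjProper.Basic

/-!
# Splitting of vector bundles on the projective line
-/

set_option autoImplicit false
universe u

open AlgebraicGeometry CategoryTheory CategoryTheory.Limits TopologicalSpace Opposite
open Groth.Agent.QCoh Groth.Agent.Props.GenLocus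

noncomputable section

namespace Groth.Agent.PicPn

section Frames

variable {X : Scheme.{u}} {M : X.Modules} {U : X.Opens} {r : ℕ}

/-- A change of frame by an invertible matrix. -/
def chg (e : Fin r → Γ(M, U)) (A : Matrix (Fin r) (Fin r) Γ(X, U)) : Fin r → Γ(M, U) :=
  fun b => ∑ a, A a b • e a

theorem res_chg (e : Fin r → Γ(M, U)) (A : Matrix (Fin r) (Fin r) Γ(X, U)) {V : X.Opens} (h : V ≤ U)
    (b : Fin r) : res M h (chg e A b) = chg (fun a => res M h (e a)) (A.map (rres h)) b := by
  simp [chg, map_sum, res_smul]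

theorem chg_chg (e : Fin r → Γ(M, U)) (A B : Matrix (Fin r) (Fin r) Γ(X, U)) :
    chg (chg e A) B = chg e (A * B) := by
  funext c
  simp only [chg, Finset.smul_sum, smul_smul, Matrix.mul_apply, Finset.sum_smul]
  rw [Finset.sum_comm]
  exact Finset.sum_congr rfl fun a _ => Finset.sum_congr rfl fun b _ => by rw [mul_comm]

theorem isFrame_chg {e : Fin r → Γ(M, U)} (he : LFFrame.IsFrame M U e)
    {A : Matrix (Fin r) (Fin r) Γ(X, U)} (hA : IsUnit A) : LFFrame.IsFrame M U (chg e A) := by
  intro V h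
  let AV := A.map (rres h)
  have hAV : IsUnit AV := hA.map (rres h).hom.mapMatrix
  have : LFFrame.comb M (chg e A) h = LFFrame.comb M e h ∘ AV.mulVec := funext fun a => by
    calc LFFrame.comb M (chg e A) h a = ∑ b, ∑ c, (a b * AV c b) • res M h (e c) := by
          refine Finset.sum_congr rfl fun b _ => ?_
          show a b • res M h (chg e A b) = _
          rw [res_chg, chg, Finset.smul_sum]
          exact Finset.sum_congr rfl fun c _ => smul_smul _ _ _
      _ = ∑ c, ∑ b, (a b * AV c b) • res M h (e c) := Finset.sum_comm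
      _ = _ := Finset.sum_congr rfl fun c _ => by
          show _ = (AV.mulVec a) c • res M h (e c)
          rw [Matrix.mulVec, dotProduct, Finset.sum_smul]
          exact Finset.sum_congr rfl fun b _ => by rw [mul_comm]
  rw [this]
  obtain ⟨w, hw⟩ := hAV
  refine (he V h).comp ⟨fun y y' hy => ?_, fun y => ⟨(w⁻¹).val.mulVec y, by
    rw [← hw, Matrix.mulVec_mulVec, Units.mul_inv, Matrix.one_mulVec]⟩⟩
  have := congrArg (w⁻¹).val.mulVec hy
  rwa [← hw, Matrix.mulVec_mulVec, Matrix.mulVec_mulVec, Units.inv_mul, Matrix.one_mulVec,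
    Matrix.one_mulVec] at this

theorem isFrame_res' {e : Fin r → Γ(M, U)} (he : LFFrame.IsFrame M U e) {V : X.Opens} (h : V ≤ U) :
    LFFrame.IsFrame M V (fun a => res M h (e a)) := by
  intro W hW
  have : LFFrame.comb M (fun a => res M h (e a)) hW = LFFrame.comb M e (hW.trans h) := by
    funext a
    exact Finset.sum_congr rfl fun i _ => congrArg _ (res_res M h hW (e i))
  rw [this]
  exact he W _

/-- Two frames differ by an invertible matrix. -/
theorem exists_chg {e f : Fin r → Γ(M, U)} (he : LFFrame.IsFrame M U e) (hf : LFFrame.IsFrame M U f) :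
    ∃ A : Matrix (Fin r) (Fin r) Γ(X, U), IsUnit A ∧ f = chg e A := by
  have key : ∀ (e f : Fin r → Γ(M, U)), LFFrame.IsFrame M U e →
      ∃ A : Matrix (Fin r) (Fin r) Γ(X, U), f = chg e A := fun e f he => by
    choose c hc using fun b => (he U le_rfl).2 (f b)
    refine ⟨Matrix.of fun a b => c b a, funext fun b => ?_⟩
    rw [← hc b]
    simp [LFFrame.comb, chg]
  obtain ⟨A, hA⟩ := key e f he
  obtain ⟨B, hB⟩ := key f e hf
  refine ⟨A, IsUnit.of_mul_eq_one B ?_, hA⟩
  have h1 : chg e (A * B) = chg e 1 := by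
    rw [← chg_chg, ← hA, ← hB]
    funext b
    simp [chg, Matrix.one_apply]
  ext a b
  refine congrFun ((he U le_rfl).1 (a₁ := fun a => (A * B) a b) (a₂ := fun a => (1 : Matrix _ _ _) a b) ?_) a
  simpa [LFFrame.comb, chg] using congrFun h1 b

end Frames

/-- Prescribed values on generators glue to a morphism. -/
theorem exists_hom_of_gen {X : Scheme.{u}} {M N : X.Modules} {ι : Type*} (W : ι → X.Opens)
    (hcov : ⊤ ≤ iSup W) (g : ∀ i, Γ(M, W i)) (hg : ∀ i, IsGen M (W i) (g i)) (h : ∀ i, Γ(N, W i))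
    (compat : ∀ (i j : ι) (V : X.Opens) (hi : V ≤ W i) (hj : V ≤ W j) (u : Γ(X, V)),
      res M hj (g j) = u • res M hi (g i) → res N hj (h j) = u • res N hi (h i)) :
    ∃ φ : M ⟶ N, ∀ (i : ι) (V : X.Opens) (hi : V ≤ W i) (a : Γ(X, V)),
      φ.app V (a • res M hi (g i)) = a • res N hi (h i) := by
  have hc : ∀ V : X.Opens, V ≤ iSup fun i ↦ V ⊓ W i := fun V x hx ↦ by
    obtain ⟨i, hi⟩ := Opens.mem_iSup.mp (hcov (trivial : x ∈ (⊤ : X.Opens)))
    exact Opens.mem_iSup.mpr ⟨i, hx, hi⟩
  let Rel : ∀ V : X.Opens, Γ(M, V) → Γ(N, V) → Prop := fun V m τ ↦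
    ∀ (i : ι) (V' : X.Opens) (hV : V' ≤ V) (hi : V' ≤ W i) (a : Γ(X, V')),
      res M hV m = a • res M hi (g i) → res N hV τ = a • res N hi (h i)
  have huniq : ∀ V m τ τ', Rel V m τ → Rel V m τ' → τ = τ' := by
    intro V m τ τ' h1 h2
    refine eq_of_locally_eq N (U := fun i ↦ V ⊓ W i) (fun i ↦ inf_le_left) (hc V) _ _ fun i ↦ ?_
    obtain ⟨a, ha, -⟩ := (hg i).exists_eq (inf_le_right : V ⊓ W i ≤ W i)
      (res M (inf_le_left : V ⊓ W i ≤ V) m)
    exact (h1 i _ inf_le_left inf_le_right a ha).trans (h2 i _ inf_le_left inf_le_right a ha).symm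
  have hex : ∀ V m, ∃ τ, Rel V m τ := by
    intro V m
    choose a ha ha' using fun i ↦ (hg i).exists_eq (inf_le_right : V ⊓ W i ≤ W i)
      (res M (inf_le_left : V ⊓ W i ≤ V) m)
    have key : ∀ (i j : ι) (V' : X.Opens) (hV : V' ≤ V) (hi : V' ≤ W i) (hj : V' ≤ W j)
        (b c : Γ(X, V')), res M hV m = b • res M hi (g i) → res M hV m = c • res M hj (g j) →
        b • res N hi (h i) = c • res N hj (h j) := by
      intro i j V' hV hi hj b c hb hcj
      obtain ⟨u, hu, -⟩ := (hg i).exists_eq hi (res M hj (g j))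
      rw [compat i j V' hi hj u hu, smul_smul]
      congr 1
      refine (hg i).injective hi ?_
      rw [← hb, hcj, hu, smul_smul]
    obtain ⟨τ, hτ⟩ := exists_glue N (U := fun i ↦ V ⊓ W i) (fun i ↦ inf_le_left) (hc V)
      (fun i ↦ a i • res N (inf_le_right : V ⊓ W i ≤ W i) (h i)) fun i j ↦ by
        simp only [res_smul, res_res]
        refine key i j _ (inf_le_left.trans inf_le_left) _ _ _ _ ?_ ?_
        · have := congrArg (res M (inf_le_left : (V ⊓ W i) ⊓ (V ⊓ W j) ≤ _)) (ha i)
          rwa [res_res, res_smul, res_res] at this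
        · have := congrArg (res M (inf_le_right : (V ⊓ W i) ⊓ (V ⊓ W j) ≤ _)) (ha j)
          rwa [res_res, res_smul, res_res] at this
    refine ⟨τ, fun i V' hV hi b hb ↦ ?_⟩
    refine eq_of_locally_eq N (U := fun j ↦ V' ⊓ W j) (fun j ↦ inf_le_left) (hc V') _ _ fun j ↦ ?_
    rw [res_res, ← res_res N (inf_le_left : V ⊓ W j ≤ V)
      (le_inf (inf_le_left.trans hV) inf_le_right : V' ⊓ W j ≤ V ⊓ W j), hτ j, res_smul, res_res,
      res_smul, res_res]
    refine key j i _ (inf_le_left.trans hV) _ _ _ _ ?_ ?_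
    · have := congrArg (res M (le_inf (inf_le_left.trans hV) inf_le_right : V' ⊓ W j ≤ V ⊓ W j)) (ha j)
      rwa [res_res, res_smul, res_res] at this
    · have := congrArg (res M (inf_le_left : V' ⊓ W j ≤ V')) hb
      rwa [res_res, res_smul, res_res] at this
  choose f hf using hex
  have hadd : ∀ V m m', f V (m + m') = f V m + f V m' := by
    intro V m m'
    refine huniq V _ _ _ (hf V _) fun i V' hV hi a ha ↦ ?_
    obtain ⟨b, hb, -⟩ := (hg i).exists_eq hi (res M hV m)
    obtain ⟨c, hc', -⟩ := (hg i).exists_eq hi (res M hV m')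
    rw [map_add, hf V m i V' hV hi b hb, hf V m' i V' hV hi c hc', ← add_smul]
    congr 1
    refine (hg i).injective hi ?_
    rw [← ha, map_add, hb, hc', add_smul]
  have hsmul : ∀ V (r : Γ(X, V)) m, f V (r • m) = r • f V m := by
    intro V r m
    refine huniq V _ _ _ (hf V _) fun i V' hV hi a ha ↦ ?_
    obtain ⟨b, hb, -⟩ := (hg i).exists_eq hi (res M hV m)
    rw [res_smul, hf V m i V' hV hi b hb, smul_smul]
    congr 1
    refine (hg i).injective hi ?_
    rw [← ha, res_smul, hb, smul_smul]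
  have hnat : ∀ (V V' : X.Opens) (hV : V' ≤ V) m, f V' (res M hV m) = res N hV (f V m) := by
    intro V V' hV m
    refine huniq V' _ _ _ (hf V' _) fun i V'' hV' hi a ha ↦ ?_
    rw [res_res] at ha ⊢
    exact hf V m i V'' (hV'.trans hV) hi a ha
  let φ : M ⟶ N :=
    ⟨PresheafOfModules.homMk
      { app := fun V => AddCommGrpCat.ofHom (show Γ(M, V.unop) →+ Γ(N, V.unop) from
          AddMonoidHom.mk' (f V.unop) (hadd V.unop))
        naturality := fun {V V'} i => by
          ext a
          exact hnat V.unop V'.unop i.unop.le a }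
      (fun V r a => hsmul V.unop r a)⟩
  exact ⟨φ, fun i V hi a ↦
    (res_self N le_rfl _).symm.trans (hf V _ i V le_rfl hi a (res_self M le_rfl _))⟩

open Groth.Agent.ProjTwist Twist

variable {k : Type u} [Field k]

theorem isIntegral_line : IsIntegral (CohB1.ProjSpace 1 k) := by
  haveI : Smooth (CohB1.ProjSpace.toSpec 1 k) := CohOps.PnSmooth.smooth_toSpec 1 k
  haveI := S18573.irreducibleSpace_projSpace 1 k
  haveI : IsReduced (CohB1.ProjSpace 1 k) := GITLib.Rigid.isReduced_of_smooth (CohB1.ProjSpace.toSpec 1 k)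
  exact isIntegral_of_irreducibleSpace_of_isReduced _

/-- Vector bundles are trivial on the charts of the line. -/
theorem exists_frame {E : (CohB1.ProjSpace 1 k).Modules} {r : ℕ}
    (hE : FlatMod.IsFinLocFreeOfRank r E) (i : Fin 2) :
    ∃ e : Fin r → Γ(E, stdOpen 1 k i), LFFrame.IsFrame E (stdOpen 1 k i) e := by
  haveI := isIntegral_line (k := k)
  haveI := (VBLib.isCoh_of_ofRank hE).1
  have hf := VBLib.isFinLocFree_of_ofRank hE
  haveI := isPrincipalIdealRing_stdOpen (k := k) i
  haveI := isDomain_stdOpen (k := k) (n := 1) i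
  haveI := Props.QProj.finitePresentation_sections E hf (isAffineOpen_stdOpen 1 k i)
  haveI := Props.QProj.projective_sections E hf (isAffineOpen_stdOpen 1 k i)
  haveI : Module.IsTorsionFree Γ(CohB1.ProjSpace 1 k, stdOpen 1 k i) Γ(E, stdOpen 1 k i) := inferInstance
  obtain ⟨n₀, b⟩ := Module.basisOfFiniteTypeTorsionFree'
    (R := Γ(CohB1.ProjSpace 1 k, stdOpen 1 k i)) (M := Γ(E, stdOpen 1 k i))
  obtain ⟨n, ⟨φ⟩⟩ := Props.QProj.nonempty_restrict_iso_free E (isAffineOpen_stdOpen 1 k i) b
  obtain ⟨e, he⟩ := VBLib.exists_isFrame_of_iso φ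
  have hn : n = r := by
    rw [← VBLib.rk_eq hE]
    exact (VBLib.rk_eq_of_isFrame he
      (VBLib.genericPoint_mem_of_mem (η_mem_stdOpen (n := 1) (K := k) i))).symm
  subst hn
  exact ⟨e, he⟩

theorem lauHom_toLaurent (p : Polynomial k) :
    lauHom p.toLaurent = rres (inf_le_left : U01 k ≤ _) (polyHom 0 p) := by
  have : (lauHom (k := k)).comp Polynomial.toLaurent =
      (rres (inf_le_left : U01 k ≤ _)).hom.comp (polyHom 0) := by
    refine Polynomial.ringHom_ext (fun a => ?_) ?_
    · rw [RingHom.comp_apply, RingHom.comp_apply, Polynomial.toLaurent_C, lauHom,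
        LaurentPolynomial.eval₂_C, polyHom, Polynomial.coe_eval₂RingHom, Polynomial.eval₂_C]
      rfl
    · rw [RingHom.comp_apply, RingHom.comp_apply, Polynomial.toLaurent_X, lauHom,
        show (1 : ℤ) = ((1 : ℕ) : ℤ) from rfl, LaurentPolynomial.eval₂_T_n, pow_one, polyHom,
        Polynomial.coe_eval₂RingHom, Polynomial.eval₂_X]
      rfl
  exact RingHom.congr_fun this p

theorem lauHom_invert_toLaurent (p : Polynomial k) :
    lauHom (LaurentPolynomial.invert p.toLaurent) = rres (inf_le_right : U01 k ≤ _) (polyHom 1 p) := by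
  have : (lauHom (k := k)).comp ((LaurentPolynomial.invert (R := k)).toRingEquiv.toRingHom.comp
      Polynomial.toLaurent) = (rres (inf_le_right : U01 k ≤ _)).hom.comp (polyHom 1) := by
    refine Polynomial.ringHom_ext (fun a => ?_) ?_
    · simp only [RingHom.comp_apply, Polynomial.toLaurent_C, polyHom, Polynomial.coe_eval₂RingHom,
        Polynomial.eval₂_C]
      change lauHom (LaurentPolynomial.invert (LaurentPolynomial.C a)) = _
      rw [LaurentPolynomial.invert_C, lauHom, LaurentPolynomial.eval₂_C]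
      rfl
    · simp only [RingHom.comp_apply, Polynomial.toLaurent_X, polyHom, Polynomial.coe_eval₂RingHom,
        Polynomial.eval₂_X]
      change lauHom (LaurentPolynomial.invert (LaurentPolynomial.T 1)) = _
      rw [LaurentPolynomial.invert_T, lauHom, show (-1 : ℤ) = -((1 : ℕ) : ℤ) from rfl,
        LaurentPolynomial.eval₂_T_neg_n, pow_one]
      rfl
  exact RingHom.congr_fun this p

/-- Frames with diagonal transition. -/
theorem exists_diag_frames {E : (CohB1.ProjSpace 1 k).Modules} {r : ℕ}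
    (hE : FlatMod.IsFinLocFreeOfRank r E) :
    ∃ (d : Fin r → ℤ) (f : ∀ i : Fin 2, Fin r → Γ(E, stdOpen 1 k i)),
      Antitone d ∧ (∀ i, LFFrame.IsFrame E (stdOpen 1 k i) (f i)) ∧
      ∀ b, res E (inf_le_right : U01 k ≤ _) (f 1 b) =
        ((tOv (k := k)) ^ d b).val • res E (inf_le_left : U01 k ≤ _) (f 0 b) := by
  choose e he using exists_frame hE
  have he0 : LFFrame.IsFrame E (U01 k) (fun a => res E inf_le_left (e 0 a)) :=
    isFrame_res' (he 0) inf_le_left
  have he1 : LFFrame.IsFrame E (U01 k) (fun a => res E inf_le_right (e 1 a)) :=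
    isFrame_res' (he 1) inf_le_right
  obtain ⟨A, hA, hAe⟩ := exists_chg he0 he1
  choose M hM using fun a b => lauHom_surjective (k := k) (A a b)
  let M' : Matrix (Fin r) (Fin r) (LaurentPolynomial k) := Matrix.of M
  have hMA : M'.map lauHom = A := Matrix.ext fun a b => hM a b
  have hM' : IsUnit M' := by
    obtain ⟨w, hw⟩ := hA
    choose N hN using fun a b => lauHom_surjective (k := k) ((w⁻¹).val a b)
    refine IsUnit.of_mul_eq_one (Matrix.of N) (Matrix.map_injective lauHom_injective ?_)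
    beta_reduce
    rw [Matrix.map_mul, hMA, show (Matrix.of N).map lauHom = (w⁻¹).val from
      Matrix.ext fun a b => hN a b, ← hw, Units.mul_inv, Matrix.map_one _ (map_zero _) (map_one _)]
  obtain ⟨P, Q, d, hP, hQ, hd, hPQ⟩ := S10849.result k r M' hM'
  obtain ⟨q, hq⟩ := hQ
  have hfr : ∀ (i : Fin 2) (R : Matrix (Fin r) (Fin r) (Polynomial k)), IsUnit R →
      LFFrame.IsFrame E (stdOpen 1 k i) (chg (e i) (R.map (polyHom i))) :=
    fun i R hR => isFrame_chg (he i) (hR.map (polyHom i).mapMatrix)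
  let R : Fin 2 → Matrix (Fin r) (Fin r) (Polynomial k) := ![P, (q⁻¹).val]
  refine ⟨d, fun i => chg (e i) ((R i).map (polyHom i)), hd, fun i => hfr i _ ?_, fun b => ?_⟩
  · fin_cases i
    · exact hP
    · exact Units.isUnit _
  let Dg : Matrix (Fin r) (Fin r) Γ(CohB1.ProjSpace 1 k, U01 k) :=
    Matrix.diagonal fun c => ((tOv (k := k)) ^ d c).val
  have hR0 : ((R 0).map (polyHom 0)).map (rres (inf_le_left : U01 k ≤ _)) =
      (P.map Polynomial.toLaurent).map lauHom :=
    Matrix.ext fun a c => (lauHom_toLaurent (P a c)).symm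
  have hR1 : ((R 1).map (polyHom 1)).map (rres (inf_le_right : U01 k ≤ _)) =
      (((q⁻¹).val.map Polynomial.toLaurent).map LaurentPolynomial.invert).map lauHom :=
    Matrix.ext fun a c => (lauHom_invert_toLaurent _).symm
  have hkey : A * (((R 1).map (polyHom 1)).map (rres (inf_le_right : U01 k ≤ _))) =
      ((R 0).map (polyHom 0)).map (rres (inf_le_left : U01 k ≤ _)) * Dg := by
    rw [← hMA, hR1, hR0, hPQ, ← hq]
    have hinv : (q.val.map Polynomial.toLaurent).map LaurentPolynomial.invert *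
        ((q⁻¹).val.map Polynomial.toLaurent).map LaurentPolynomial.invert = 1 := by
      rw [← Matrix.map_mul, ← Matrix.map_mul, Units.mul_inv, Matrix.map_one _ (map_zero _) (map_one _),
        Matrix.map_one _ (map_zero _) (map_one _)]
    rw [← Matrix.map_mul, mul_assoc, hinv, mul_one, Matrix.map_mul, Matrix.diagonal_map (map_zero _)]
    congr 2
    funext c
    rw [lauHom, LaurentPolynomial.eval₂_T]
  change res E _ (chg (e 1) ((R 1).map (polyHom 1)) b) = _ • res E _ (chg (e 0) ((R 0).map (polyHom 0)) b)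
  rw [res_chg, res_chg, hAe, chg_chg, hkey, ← chg_chg]
  simp [chg, Dg, Matrix.diagonal_apply]

/-- The generators of twists on the two charts. -/
theorem res_pg (d : ℤ) :
    res (Twist.twistProjSpace 1 k d) (inf_le_right : U01 k ≤ _) (pg d 1) =
      ((tOv (k := k)) ^ d).val • res (Twist.twistProjSpace 1 k d) (inf_le_left : U01 k ≤ _) (pg d 0) := by
  obtain ⟨w, hw, -⟩ := (isGen_pg d (0 : Fin 2)).exists_eq (inf_le_left : U01 k ≤ _)
    (res (Twist.twistProjSpace 1 k d) (inf_le_right : U01 k ≤ _) (pg d 1))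
  rw [hw]
  congr 1
  refine val_injective η_mem_U01 ?_
  rw [val_powGen d 0 1 (U01 k) inf_le_left inf_le_right η_mem_U01 w hw]
  exact (val_tOv_zpow d).symm

/-- Frames with diagonal transition give a splitting. -/
theorem nonempty_iso_of_frames {E : (CohB1.ProjSpace 1 k).Modules} {r : ℕ} (d : Fin r → ℤ)
    (f : ∀ i : Fin 2, Fin r → Γ(E, stdOpen 1 k i))
    (hf : ∀ i, LFFrame.IsFrame E (stdOpen 1 k i) (f i))
    (hdiag : ∀ b, res E (inf_le_right : U01 k ≤ _) (f 1 b) =
      ((tOv (k := k)) ^ d b).val • res E (inf_le_left : U01 k ≤ _) (f 0 b)) :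
    Nonempty (E ≅ ∐ fun i : Fin r => Twist.twistProjSpace 1 k (d i)) := by
  classical
  haveI : HasFiniteBiproducts (CohB1.ProjSpace 1 k).Modules := Abelian.hasFiniteBiproducts
  have hcov : ⊤ ≤ ⨆ i : Fin 2, stdOpen 1 k i := (iSup_stdOpen 1 k).ge
  have hex : ∀ b, ∃ g : Twist.twistProjSpace 1 k (d b) ⟶ E, ∀ (i : Fin 2) V (hi : V ≤ stdOpen 1 k i) a,
      g.app V (a • res (Twist.twistProjSpace 1 k (d b)) hi (pg (d b) i)) = a • res E hi (f i b) := fun b => by
    refine exists_hom_of_gen (fun i : Fin 2 => stdOpen 1 k i) hcov (fun i => pg (d b) i)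
      (fun i => isGen_pg (d b) i) (fun i => f i b) fun i j V hi hj u hu => ?_
    obtain rfl | rfl : i = 0 ∨ i = 1 := by omega
    all_goals obtain rfl | rfl : j = 0 ∨ j = 1 := by omega
    · have h1 : u = 1 := (isGen_pg (d b) _).injective hi (hu.symm.trans (one_smul _ _).symm)
      rw [h1, one_smul]
    · have h1 := congrArg (res (Twist.twistProjSpace 1 k (d b)) (le_inf hi hj : V ≤ U01 k)) (res_pg (d b))
      rw [res_smul, res_res, res_res] at h1
      rw [(isGen_pg (d b) _).injective hi (hu.symm.trans h1)]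
      have h2 := congrArg (res E (le_inf hi hj : V ≤ U01 k)) (hdiag b)
      rw [res_smul, res_res, res_res] at h2
      exact h2
    · have h1 := congrArg (res (Twist.twistProjSpace 1 k (d b)) (le_inf hj hi : V ≤ U01 k)) (res_pg (d b))
      rw [res_smul, res_res, res_res] at h1
      have h2 := congrArg (res E (le_inf hj hi : V ≤ U01 k)) (hdiag b)
      rw [res_smul, res_res, res_res] at h2
      have h3 : u * rres (le_inf hj hi : V ≤ U01 k) ((tOv (k := k)) ^ d b).val = 1 := by
        refine (isGen_pg (d b) _).injective hj ?_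
        rw [mul_smul, one_smul, ← h1]
        exact hu.symm
      exact ((congrArg (u • ·) h2).trans (by rw [smul_smul, h3, one_smul])).symm
    · have h1 : u = 1 := (isGen_pg (d b) _).injective hi (hu.symm.trans (one_smul _ _).symm)
      rw [h1, one_smul]
  choose g hg using hex
  let T := fun b : Fin r => Twist.twistProjSpace 1 k (d b)
  let φ : ⨁ T ⟶ E := biproduct.desc g
  haveI : IsIso φ := LFFrame.isIso_of_locally_bijective φ fun x => by
    obtain ⟨i, hi⟩ := Opens.mem_iSup.mp (hcov (trivial : x ∈ (⊤ : (CohB1.ProjSpace 1 k).Opens)))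
    refine ⟨stdOpen 1 k i, hi, fun V hV => ?_⟩
    have hι : ∀ b (a : Γ(CohB1.ProjSpace 1 k, V)),
        φ.app V ((biproduct.ι T b).app V (a • res (T b) hV (pg (d b) i))) = a • res E hV (f i b) :=
      fun b a => (congrArg (fun (ψ : T b ⟶ E) => ψ.app V (a • res (T b) hV (pg (d b) i)))
        (biproduct.ι_desc g b)).trans (hg b i V hV a)
    refine ⟨(injective_iff_map_eq_zero _).mpr fun z hz => ?_, fun m => ?_⟩
    · choose a ha using fun b => (isGen_pg (K := k) (n := 1) (d b) i V hV).2 ((biproduct.π T b).app V z)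
      have hz' : z = ∑ b, (biproduct.ι T b).app V (a b • res (T b) hV (pg (d b) i)) := by
        have := congrArg (fun ψ : ⨁ T ⟶ ⨁ T => ψ.app V z) (biproduct.total (f := T))
        rw [KSMod.sum_app] at this
        refine this.symm.trans (Finset.sum_congr rfl fun b _ => ?_)
        exact congrArg ((biproduct.ι T b).app V) (ha b).symm
      rw [hz', map_sum] at hz
      simp only [hι] at hz
      have h0 := (hf i V hV).1 (a₁ := a) (a₂ := 0) (hz.trans (by simp [LFFrame.comb]))
      rw [hz']
      exact Finset.sum_eq_zero fun b _ => by rw [h0, Pi.zero_apply, zero_smul, map_zero]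
    · obtain ⟨a, ha⟩ := (hf i V hV).2 m
      refine ⟨∑ b, (biproduct.ι T b).app V (a b • res (T b) hV (pg (d b) i)), ?_⟩
      rw [map_sum]
      simp only [hι]
      exact ha
  exact ⟨(asIso φ).symm ≪≫ biproduct.isoCoproduct T⟩

/-- Existence of the splitting. -/
theorem exists_splitting {E : (CohB1.ProjSpace 1 k).Modules} {r : ℕ}
    (hE : FlatMod.IsFinLocFreeOfRank r E) :
    ∃ d : Fin r → ℤ, Antitone d ∧
      Nonempty (E ≅ ∐ fun i : Fin r => Twist.twistProjSpace 1 k (d i)) := by
  obtain ⟨d, f, hd, hf, hdiag⟩ := exists_diag_frames hE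
  exact ⟨d, hd, nonempty_iso_of_frames d f hf hdiag⟩

/-- Uniqueness of the degrees. -/
theorem splitting_unique {r : ℕ} {E : (CohB1.ProjSpace 1 k).Modules} (hE : Coh.IsCoh E)
    {d d' : Fin r → ℤ} (hd : Antitone d) (hd' : Antitone d')
    (e : E ≅ ∐ fun i : Fin r => Twist.twistProjSpace 1 k (d i))
    (e' : E ≅ ∐ fun i : Fin r => Twist.twistProjSpace 1 k (d' i)) : d = d' := by
  haveI : HasFiniteBiproducts (CohB1.ProjSpace 1 k).Modules := Abelian.hasFiniteBiproducts
  haveI := ProjProper.Basic.isProper_toSpec 1 k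
  haveI := KSMod.isArtinianRing_end k (CohB1.ProjSpace.toSpec 1 k) E hE
  haveI := S18573.irreducibleSpace_projSpace 1 k
  obtain ⟨σ, hσ⟩ := KSMod.dec_unique
    (fun i => KSMod.indec_of_isInvertible (isInvertible_twistProjSpace 1 k (d i)))
    (fun i => KSMod.indec_of_isInvertible (isInvertible_twistProjSpace 1 k (d' i)))
    (KSMod.Dec.ofIso (e ≪≫ (biproduct.isoCoproduct _).symm))
    (KSMod.Dec.ofIso (e' ≪≫ (biproduct.isoCoproduct _).symm))
  have h : d = d' ∘ σ := funext fun i => degree_unique le_rfl _ _ (hσ i).some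
  have h2 : d' ∘ σ = d' ∘ ((1 : Equiv.Perm (Fin r)) : Fin r → Fin r) :=
    Tuple.unique_antitone (h ▸ hd) (by simpa using hd')
  exact h.trans (h2.trans rfl)

end Groth.Agent.PicPn
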