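import Groth.Agent.S0233
import Groth.Agent.ZetaLib.ProjPoints
import Groth.Agent.ProjTwist.Invertible
import Mathlib.RingTheory.Polynomial.UniqueFactorization

/-!
# The standard charts of projective space have factorial rings of functions
-/

set_option autoImplicit false
universe u

open AlgebraicGeometry CategoryTheory MvPolynomial TopologicalSpace

noncomputable section

namespace Groth.Agent.PicPn

open Groth.Agent.ProjTwist

variable (n : ℕ) (K : Type u) [CommRing K] [IsDomain K] [UniqueFactorizationMonoid K] (i : Fin (n + 1))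

/-- Dehomogenisation at `X i`. -/
abbrev dh : MvPolynomial (Fin (n + 1)) K →+*
    HomogeneousLocalization.Away (CohB1.polyGrading n K) (X i) :=
  ZetaLib.dehom (CohB1.polyGrading n K) (X_mem_polyGrading n K i)

theorem dh_self : dh n K i (X i) = 1 := by
  rw [dh, ZetaLib.dehom_of_mem _ _ (X_mem_polyGrading n K i)]
  refine HomogeneousLocalization.val_injective _ ?_
  simp [Localization.mk_self ⟨X i, (Submonoid.mem_powers (X i : MvPolynomial (Fin (n + 1)) K))⟩]

theorem dh_C (r : K) :
    dh n K i (C r) = HomogeneousLocalization.fromZeroRingHom (CohB1.polyGrading n K) _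
      (algebraMap K (CohB1.polyGrading n K 0) r) := by
  rw [dh, ZetaLib.dehom_of_mem _ _ ((mem_homogeneousSubmodule 0 _).mpr (isHomogeneous_C _ r))]
  refine HomogeneousLocalization.val_injective _ ?_
  simp [HomogeneousLocalization.fromZeroRingHom]
  all_goals rfl

/-- The affine coordinates. -/
abbrev Var : Type := {j : Fin (n + 1) // j ≠ i}

/-- Setting `X i = 1`. -/
abbrev ev : MvPolynomial (Fin (n + 1)) K →+* MvPolynomial (Var n i) K :=
  eval₂Hom C fun j => if h : j = i then 1 else X ⟨j, h⟩

/-- The inverse of dehomogenisation. -/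
abbrev toAway : MvPolynomial (Var n i) K →+*
    HomogeneousLocalization.Away (CohB1.polyGrading n K) (X i) :=
  eval₂Hom ((dh n K i).comp C) fun j => dh n K i (X j.1)

theorem exists_leftInverse :
    ∃ φ : HomogeneousLocalization.Away (CohB1.polyGrading n K) (X i) →+* MvPolynomial (Var n i) K,
      φ.comp (dh n K i) = ev n K i := by
  have hu : IsUnit (ev n K i (X i)) := by simp
  refine ⟨(IsLocalization.Away.lift (S := Localization.Away (X i : MvPolynomial (Fin (n + 1)) K)) (X i) hu).comp
    (algebraMap _ _), ?_⟩
  refine MvPolynomial.ringHom_ext (fun r => ?_) fun j => ?_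
  · rw [RingHom.comp_apply, dh_C, RingHom.comp_apply]
    refine Eq.trans (congrArg _ (?_ : _ = algebraMap (MvPolynomial (Fin (n + 1)) K) _ (C r))) (IsLocalization.Away.lift_eq _ hu _)
    rw [HomogeneousLocalization.algebraMap_apply]
    simp [HomogeneousLocalization.fromZeroRingHom, Localization.mk_one_eq_algebraMap]
    rfl
  · rw [RingHom.comp_apply, dh, ZetaLib.dehom_of_mem _ _ ((mem_homogeneousSubmodule 1 _).mpr (isHomogeneous_X K j)),
      RingHom.comp_apply]
    set L := IsLocalization.Away.lift (S := Localization.Away (X i : MvPolynomial (Fin (n + 1)) K)) (X i) hu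
    rw [HomogeneousLocalization.algebraMap_apply, HomogeneousLocalization.Away.val_mk, Localization.mk_eq_mk']
    have h := congrArg L (IsLocalization.mk'_spec (Localization.Away (X i : MvPolynomial (Fin (n + 1)) K)) (X j)
      (⟨(X i) ^ 1, 1, rfl⟩ : Submonoid.powers (X i : MvPolynomial (Fin (n + 1)) K)))
    rw [map_mul, IsLocalization.Away.lift_eq, IsLocalization.Away.lift_eq] at h
    simpa using h

theorem toAway_bijective : Function.Bijective (toAway n K i) := by
  obtain ⟨φ, hφ⟩ := exists_leftInverse n K i
  have hcomp : (toAway n K i).comp (ev n K i) = dh n K i := by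
    refine MvPolynomial.ringHom_ext (fun r => by simp) fun j => ?_
    by_cases h : j = i
    · subst h; simp [dh_self]
    · simp [h]
  have h : φ.comp (toAway n K i) = RingHom.id _ := by
    refine MvPolynomial.ringHom_ext (fun r => ?_) fun j => ?_
    · have := RingHom.congr_fun hφ (C r)
      simpa using this
    · have := RingHom.congr_fun hφ (X j.1)
      simpa [j.2] using this
  refine ⟨Function.LeftInverse.injective (g := φ) (RingHom.congr_fun h), fun y => ?_⟩
  obtain ⟨x, rfl⟩ := ZetaLib.dehom_surjective (CohB1.polyGrading n K) (X_mem_polyGrading n K i) y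
  exact ⟨ev n K i x, RingHom.congr_fun hcomp x⟩

/-- Functions on a standard chart are polynomials. -/
def chartEquiv : MvPolynomial (Var n i) K ≃* Γ(CohB1.ProjSpace n K, stdOpen n K i) :=
  (RingEquiv.ofBijective (toAway n K i) (toAway_bijective n K i)).toMulEquiv.trans
    (Proj.basicOpenIsoAway (CohB1.polyGrading n K) (X i) (X_mem_polyGrading n K i)
      one_pos).commRingCatIsoToRingEquiv.toMulEquiv

/-- Invertible modules are trivial on the standard charts. -/
theorem exists_gen_stdOpen {M : (CohB1.ProjSpace n K).Modules} (hM : PicF.IsInvertible M) :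
    ∃ g : Γ(M, stdOpen n K i), Props.GenLocus.IsGen M (stdOpen n K i) g := by
  haveI hd : IsDomain Γ(CohB1.ProjSpace n K, stdOpen n K i) :=
    (chartEquiv n K i).symm.isDomain _
  let C : InvExt.Chart (CohB1.ProjSpace n K) := ⟨stdOpen n K i, isAffineOpen_stdOpen n K i, hd⟩
  haveI : UniqueFactorizationMonoid Γ(CohB1.ProjSpace n K, C.V) :=
    (chartEquiv n K i).uniqueFactorizationMonoid inferInstance
  refine S0233.exists_gen C (stdOpen n K i) le_rfl fun z hz => ?_
  obtain ⟨O, g, hzO, hg⟩ := Props.GenLocus.exists_isGen hM z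
  exact ⟨O ⊓ stdOpen n K i, QCoh.res M inf_le_left g, ⟨hzO, hz⟩, inf_le_right, hg.restrict _⟩

end Groth.Agent.PicPn
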