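import Groth.Agent.ProjTwist.Tensor
import Groth.Agent.ProjTwist.Zero
import Groth.Agent.PicPn.Chart
import Mathlib.RingTheory.Localization.FractionRing
import Mathlib.Algebra.MvPolynomial.Division

/-!
# Functions on projective space as elements of the field of fractions of the polynomial ring
-/

set_option autoImplicit false
universe u

open AlgebraicGeometry CategoryTheory MvPolynomial TopologicalSpace Opposite

noncomputable section

namespace Groth.Agent.PicPn

open Groth.Agent.ProjTwist Twist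

variable {n : ℕ} {K : Type u} [CommRing K] [IsDomain K] [UniqueFactorizationMonoid K]

/-- The polynomial ring. -/
abbrev P (n : ℕ) (K : Type u) [CommRing K] [IsDomain K] [UniqueFactorizationMonoid K] : Type u := MvPolynomial (Fin (n + 1)) K

/-- Its fraction field. -/
abbrev Fr (n : ℕ) (K : Type u) [CommRing K] [IsDomain K] [UniqueFactorizationMonoid K] : Type u := FractionRing (P n K)

/-- Polynomials as fractions. -/
abbrev toFr (a : P n K) : Fr n K := algebraMap (P n K) (Fr n K) a

theorem toFr_ne_zero {a : P n K} (ha : a ≠ 0) : toFr a ≠ 0 := fun h =>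
  ha ((IsFractionRing.injective (P n K) (Fr n K)) (h.trans (map_zero _).symm))

/-- The generic point. -/
def η : ProjectiveSpectrum (CohB1.polyGrading n K) where
  asHomogeneousIdeal := ⊥
  isPrime := by
    rw [HomogeneousIdeal.toIdeal_bot]
    exact Ideal.isPrime_bot
  not_irrelevant_le := fun hle => by
    have hX : (X 0 : P n K) ∈ (HomogeneousIdeal.irrelevant (CohB1.polyGrading n K)).toIdeal := by
      apply HomogeneousIdeal.mem_irrelevant_of_mem (CohB1.polyGrading n K) (i := 1) one_pos
      exact isHomogeneous_X K 0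
    have : (X 0 : P n K) ∈ (⊥ : HomogeneousIdeal (CohB1.polyGrading n K)).toIdeal := hle hX
    rw [HomogeneousIdeal.toIdeal_bot, Ideal.mem_bot] at this
    exact X_ne_zero (R := K) (0 : Fin (n + 1)) this

theorem notMem_η {a : P n K} (ha : a ≠ 0) : a ∉ (η (n := n) (K := K)).asHomogeneousIdeal := fun h => ha (by
  change a ∈ (⊥ : HomogeneousIdeal (CohB1.polyGrading n K)).toIdeal at h
  rwa [HomogeneousIdeal.toIdeal_bot, Ideal.mem_bot] at h)

theorem ne_zero_of_notMem_η {a : P n K} (ha : a ∉ (η (n := n) (K := K)).asHomogeneousIdeal) : a ≠ 0 :=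
  fun h => ha (h ▸ (η (n := n) (K := K)).asHomogeneousIdeal.toIdeal.zero_mem)

theorem η_mem {V : (CohB1.ProjSpace n K).Opens} {x : CohB1.ProjSpace n K} (hx : x ∈ V) :
    (η : ProjectiveSpectrum (CohB1.polyGrading n K)) ∈ V := by
  by_contra h
  obtain ⟨s, hs⟩ := (ProjectiveSpectrum.isClosed_iff_zeroLocus (CohB1.polyGrading n K) _).1
    (V.2.isClosed_compl)
  have hη : (η : ProjectiveSpectrum (CohB1.polyGrading n K)) ∈
      ProjectiveSpectrum.zeroLocus (CohB1.polyGrading n K) s := hs ▸ h
  have hx' : (x : ProjectiveSpectrum (CohB1.polyGrading n K)) ∈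
      ProjectiveSpectrum.zeroLocus (CohB1.polyGrading n K) s := fun a ha => by
    have h0 : a = 0 := by_contra fun hne => notMem_η hne (hη ha)
    rw [h0]
    exact Submodule.zero_mem _
  rw [← hs] at hx'
  exact hx' hx

theorem η_mem_stdOpen (i : Fin (n + 1)) :
    (η : ProjectiveSpectrum (CohB1.polyGrading n K)) ∈ stdOpen n K i :=
  notMem_η (X_ne_zero i)

/-- The local ring at the generic point inside the fraction field. -/
def ψ : Loc (CohB1.polyGrading n K) (η (n := n) (K := K)) →+* Fr n K :=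
  haveI := (η (n := n) (K := K)).isPrime
  IsLocalization.lift (M := (η (n := n) (K := K)).asHomogeneousIdeal.toIdeal.primeCompl)
    (g := algebraMap (P n K) (Fr n K))
    fun s => IsUnit.mk0 _ (toFr_ne_zero (ne_zero_of_notMem_η s.2))

theorem ψ_algebraMap (a : P n K) : ψ (algebraMap _ _ a) = toFr a := IsLocalization.lift_eq _ _

theorem ψ_mk (a : P n K) (b : (η (n := n) (K := K)).asHomogeneousIdeal.toIdeal.primeCompl) :
    ψ (Localization.mk a b) = toFr a / toFr b.1 := by
  haveI := (η (n := n) (K := K)).isPrime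
  rw [eq_div_iff (toFr_ne_zero (ne_zero_of_notMem_η b.2)), Localization.mk_eq_mk', ← ψ_algebraMap b.1,
    ← ψ_algebraMap a, ← map_mul, IsLocalization.mk'_spec]

/-- The value of a function at the generic point. -/
def val {V : (CohB1.ProjSpace n K).Opens} (h : (η : ProjectiveSpectrum (CohB1.polyGrading n K)) ∈ V)
    (c : Γ(CohB1.ProjSpace n K, V)) : Fr n K :=
  ψ (valAt (𝒜 := CohB1.polyGrading n K) c η h)

theorem val_mul {V : (CohB1.ProjSpace n K).Opens} (h : (η : ProjectiveSpectrum (CohB1.polyGrading n K)) ∈ V)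
    (c d : Γ(CohB1.ProjSpace n K, V)) : val h (c * d) = val h c * val h d :=
  (congrArg ψ (valAt_mul (𝒜 := CohB1.polyGrading n K) c d η h)).trans (map_mul ψ _ _)

theorem val_one {V : (CohB1.ProjSpace n K).Opens} (h : (η : ProjectiveSpectrum (CohB1.polyGrading n K)) ∈ V) :
    val h (1 : Γ(CohB1.ProjSpace n K, V)) = 1 :=
  (congrArg ψ (valAt_one (𝒜 := CohB1.polyGrading n K) η h)).trans (map_one ψ)

theorem val_res {U V : (CohB1.ProjSpace n K).Opens} (hVU : V ≤ U)
    (h : (η : ProjectiveSpectrum (CohB1.polyGrading n K)) ∈ V) (c : Γ(CohB1.ProjSpace n K, U)) :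
    val h (QCoh.rres hVU c) = val (hVU h) c := rfl

theorem val_injective {V : (CohB1.ProjSpace n K).Opens}
    (h : (η : ProjectiveSpectrum (CohB1.polyGrading n K)) ∈ V) {c d : Γ(CohB1.ProjSpace n K, V)}
    (hcd : val h c = val h d) : c = d := by
  refine valAt_ext (𝒜 := CohB1.polyGrading n K) fun x hx => ?_
  have hxp := x.isPrime
  have hηp := (η (n := n) (K := K)).isPrime
  obtain ⟨W, hxW, iW, i, a, b, hb, hab⟩ := (show O (𝒜 := CohB1.polyGrading n K) (op V) from c).2 ⟨x, hx⟩
  obtain ⟨W', hxW', iW', i', a', b', hb', hab'⟩ := (show O (𝒜 := CohB1.polyGrading n K) (op V) from d).2 ⟨x, hx⟩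
  have e1 : ∀ y : W, valAt (𝒜 := CohB1.polyGrading n K) c y.1 (iW.le y.2) =
      Localization.mk a.1 ⟨b.1, hb y⟩ := fun y => by
    have := y.1.isPrime
    exact (congrArg HomogeneousLocalization.val (hab y)).trans (HomogeneousLocalization.val_mk _)
  have e2 : ∀ y : W', valAt (𝒜 := CohB1.polyGrading n K) d y.1 (iW'.le y.2) =
      Localization.mk a'.1 ⟨b'.1, hb' y⟩ := fun y => by
    have := y.1.isPrime
    exact (congrArg HomogeneousLocalization.val (hab' y)).trans (HomogeneousLocalization.val_mk _)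
  have hηW : (η : ProjectiveSpectrum (CohB1.polyGrading n K)) ∈ W := η_mem (V := W) hxW
  have hηW' : (η : ProjectiveSpectrum (CohB1.polyGrading n K)) ∈ W' := η_mem (V := W') hxW'
  have h1 : val h c = toFr a.1 / toFr b.1 := (congrArg ψ (e1 ⟨η, hηW⟩)).trans (ψ_mk _ _)
  have h2 : val h d = toFr a'.1 / toFr b'.1 := (congrArg ψ (e2 ⟨η, hηW'⟩)).trans (ψ_mk _ _)
  have h3 : a.1 * b'.1 = a'.1 * b.1 := by
    refine IsFractionRing.injective (P n K) (Fr n K) ?_
    rw [map_mul, map_mul, ← div_eq_div_iff (toFr_ne_zero (ne_zero_of_notMem_η (hb ⟨η, hηW⟩)))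
      (toFr_ne_zero (ne_zero_of_notMem_η (hb' ⟨η, hηW'⟩)))]
    exact h1.symm.trans (hcd.trans h2)
  refine (e1 ⟨x, hxW⟩).trans (Eq.trans ?_ (e2 ⟨x, hxW'⟩).symm)
  rw [Localization.mk_eq_mk_iff, Localization.r_iff_exists]
  exact ⟨1, by simp only [OneMemClass.coe_one, one_mul]; linear_combination h3⟩

/-! ### Monomials with integer exponents -/

/-- `∏ X k ^ e k`. -/
def mono (e : Fin (n + 1) → ℤ) : Fr n K := ∏ k, toFr (X k : P n K) ^ e k

theorem mono_zero : mono (n := n) (K := K) 0 = 1 := by simp [mono]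

theorem mono_ne_zero (e : Fin (n + 1) → ℤ) : mono (K := K) e ≠ 0 :=
  Finset.prod_ne_zero_iff.mpr fun k _ => zpow_ne_zero _ (toFr_ne_zero (X_ne_zero k))

theorem mono_add (e e' : Fin (n + 1) → ℤ) : mono (K := K) (e + e') = mono e * mono e' := by
  rw [mono, mono, mono, ← Finset.prod_mul_distrib]
  exact Finset.prod_congr rfl fun k _ => zpow_add₀ (toFr_ne_zero (X_ne_zero k)) _ _

theorem mono_single (i : Fin (n + 1)) (a : ℤ) :
    mono (K := K) (Pi.single i a) = toFr (X i : P n K) ^ a := by
  rw [mono, Finset.prod_eq_single i, Pi.single_eq_same]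
  · intro k _ hk; rw [Pi.single_eq_of_ne hk, zpow_zero]
  · simp

theorem mono_natCast (m : Fin (n + 1) →₀ ℕ) :
    mono (K := K) (fun k => (m k : ℤ)) = toFr (monomial m 1 : P n K) := by
  rw [mono, monomial_eq, map_one, one_mul, Finsupp.prod_fintype _ _ (fun k => pow_zero _), toFr,
    map_prod]
  exact Finset.prod_congr rfl fun k _ => by rw [zpow_natCast, map_pow]

/-- The exponent is determined. -/
theorem eq_of_mono_eq {r r' : K} (hr : r ≠ 0) {e e' : Fin (n + 1) → ℤ}
    (h : toFr (C r : P n K) * mono e = toFr (C r') * mono e') : e = e' ∧ r = r' := by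
  let N : Fin (n + 1) → ℤ := fun k => |e k| + |e' k|
  let m : Fin (n + 1) →₀ ℕ := Finsupp.equivFunOnFinite.symm fun k => (e k + N k).toNat
  let m' : Fin (n + 1) →₀ ℕ := Finsupp.equivFunOnFinite.symm fun k => (e' k + N k).toNat
  have hm : (fun k => (m k : ℤ)) = e + N := funext fun k => by
    have h1 := neg_abs_le (e k)
    have h2 := abs_nonneg (e' k)
    simp only [m, Finsupp.equivFunOnFinite_symm_apply_apply, Pi.add_apply, N]
    omega
  have hm' : (fun k => (m' k : ℤ)) = e' + N := funext fun k => by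
    have h1 := neg_abs_le (e' k)
    have h2 := abs_nonneg (e k)
    simp only [m', Finsupp.equivFunOnFinite_symm_apply_apply, Pi.add_apply, N]
    omega
  have h1 := congrArg (· * mono N) h
  simp only [mul_assoc, ← mono_add, ← hm, ← hm', mono_natCast, toFr, ← map_mul, C_mul_monomial,
    mul_one] at h1
  have h2 := IsFractionRing.injective (P n K) (Fr n K) h1
  rcases (monomial_eq_monomial_iff _ _ _ _).mp h2 with ⟨hmm, hrr⟩ | ⟨h0, -⟩
  · refine ⟨funext fun k => ?_, hrr⟩
    have := congrFun hm k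
    have := congrFun hm' k
    rw [hmm] at *
    simp only [Pi.add_apply] at *
    omega
  · exact absurd h0 hr

end Groth.Agent.PicPn
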