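import Groth.Agent.PicPn.Main
import Mathlib.Algebra.Polynomial.Laurent

/-!
# Functions on the charts of the projective line over a field
-/

set_option autoImplicit false
universe u

open AlgebraicGeometry CategoryTheory MvPolynomial TopologicalSpace Opposite
open Groth.Agent.QCoh Groth.Agent.Props.GenLocus

noncomputable section

namespace Groth.Agent.PicPn

open Groth.Agent.ProjTwist Twist

variable {k : Type u} [Field k]

variable {n : ℕ}

/-- The value at the generic point as a ring homomorphism. -/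
def valHom {V : (CohB1.ProjSpace n k).Opens}
    (h : (η : ProjectiveSpectrum (CohB1.polyGrading n k)) ∈ V) :
    Γ(CohB1.ProjSpace n k, V) →+* Fr n k :=
  RingHom.mk' ⟨⟨val h, val_one h⟩, val_mul h⟩ fun c d =>
    (congrArg ψ (valAt_add (𝒜 := CohB1.polyGrading n k) c d η h)).trans (map_add ψ _ _)

/-- Constant functions. -/
def cstFun (V : (CohB1.ProjSpace n k).Opens) (r : k) : Γ(CohB1.ProjSpace n k, V) :=
  fracFun (𝒜 := CohB1.polyGrading n k) (k := 0)
    ((mem_homogeneousSubmodule 0 _).mpr (isHomogeneous_C _ r))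
    ((mem_homogeneousSubmodule 0 _).mpr (isHomogeneous_C _ 1))
    (fun x _ => (Proj.mem_basicOpen (CohB1.polyGrading n k) (C 1) x).mpr fun h =>
      x.isPrime.ne_top ((Ideal.eq_top_iff_one _).mpr (by simpa using h)))

theorem val_cstFun {V : (CohB1.ProjSpace n k).Opens}
    (h : (η : ProjectiveSpectrum (CohB1.polyGrading n k)) ∈ V) (r : k) :
    val h (cstFun V r) = toFr (C r) := by
  refine (congrArg ψ (valAt_fracFun (𝒜 := CohB1.polyGrading n k) _ _ _ η h)).trans ?_
  rw [ψ_mk]
  simp [toFr]

theorem rres_cstFun {U V : (CohB1.ProjSpace n k).Opens} (hVU : V ≤ U) (r : k) :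
    rres hVU (cstFun U r) = cstFun V r := rfl

/-- Constant functions as a ring homomorphism. -/
def cst {V : (CohB1.ProjSpace n k).Opens}
    (h : (η : ProjectiveSpectrum (CohB1.polyGrading n k)) ∈ V) :
    k →+* Γ(CohB1.ProjSpace n k, V) :=
  RingHom.mk' ⟨⟨cstFun V, val_injective h (by rw [val_cstFun, val_one, map_one, toFr, map_one])⟩,
    fun a b => val_injective h (by
      rw [val_mul, val_cstFun, val_cstFun, val_cstFun, map_mul, toFr, toFr, toFr, map_mul])⟩
    fun a b => val_injective h (by
      change valHom h (cstFun V (a + b)) = valHom h (cstFun V a + cstFun V b)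
      rw [map_add]
      change val h (cstFun V (a + b)) = val h (cstFun V a) + val h (cstFun V b)
      rw [val_cstFun, val_cstFun, val_cstFun, map_add, toFr, toFr, toFr, map_add])

/-- A coordinate ratio on a chart. -/
def ratio (i j : Fin (n + 1)) : Γ(CohB1.ProjSpace n k, stdOpen n k i) :=
  fracFun (𝒜 := CohB1.polyGrading n k) (X_mem_polyGrading n k j) (X_mem_polyGrading n k i) le_rfl

theorem val_ratio (i j : Fin (n + 1)) :
    val (η_mem_stdOpen i) (ratio (k := k) i j) = mono (Pi.single j 1 - Pi.single i 1) := by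
  refine (congrArg ψ (valAt_fracFun (𝒜 := CohB1.polyGrading n k) _ _ _ η _)).trans ?_
  rw [ψ_mk, div_eq_iff (toFr_ne_zero (X_ne_zero i)),
    show toFr (X i : P n k) = mono (Pi.single i 1) by rw [mono_single, zpow_one], ← mono_add,
    sub_add_cancel, mono_single, zpow_one]

theorem mono_nsmul (e : Fin (n + 1) → ℤ) (m : ℕ) : mono (K := k) e ^ m = mono ((m : ℤ) • e) := by
  induction m with
  | zero => simp [mono_zero]
  | succ m ih => rw [pow_succ, ih, ← mono_add, Nat.cast_succ, add_smul, one_smul]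

theorem mono_zpow (e : Fin (n + 1) → ℤ) (d : ℤ) : mono (K := k) e ^ d = mono (d • e) := by
  obtain ⟨m, rfl | rfl⟩ := Int.eq_nat_or_neg d
  · rw [zpow_natCast, mono_nsmul]
  · rw [zpow_neg, zpow_natCast, mono_nsmul, inv_eq_one_div, div_eq_iff (mono_ne_zero _), ← mono_add,
      neg_smul, neg_add_cancel, mono_zero]

/-- Values of functions on a basic open of a product of coordinates. -/
theorem exists_val_frac {f g h : P n k} {d : ℕ} (hf : f ∈ CohB1.polyGrading n k d) (hd : 0 < d)
    (hg : g ∈ CohB1.polyGrading n k 1) (hh : h ∈ CohB1.polyGrading n k (d - 1)) (hfg : f = g * h)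
    (hη : (η : ProjectiveSpectrum (CohB1.polyGrading n k)) ∈ dPlus (CohB1.polyGrading n k) f)
    (c : Γ(CohB1.ProjSpace n k, dPlus (CohB1.polyGrading n k) f)) :
    ∃ (N : ℕ) (a : P n k), a.IsHomogeneous (N * d) ∧ val hη c = toFr a / toFr (f ^ N) := by
  obtain ⟨i, N, a, ha, hi, hs⟩ := exists_frac (𝒜 := CohB1.polyGrading n k) hf hd hg hh hfg 0
    ((show O (𝒜 := CohB1.polyGrading n k) (op (dPlus (CohB1.polyGrading n k) f)) from c) •
      oneSec (CohB1.polyGrading n k) (op (dPlus (CohB1.polyGrading n k) f)))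
  have e := hs ⟨η, hη⟩
  rw [smul_coe, oneSec_coe, mul_one] at e
  refine ⟨N, a, ?_, (congrArg ψ e).trans (ψ_mk _ _)⟩
  have hN : i = N * d := by
    rw [add_zero] at hi
    exact_mod_cast hi
  exact hN ▸ (mem_homogeneousSubmodule _ _).mp ha

/-- A homogeneous fraction of the coordinates is a combination of monomials. -/
theorem frac_eq_sum {a : P n k} {e : Fin (n + 1) → ℤ} {b : P n k} (hb : toFr b = mono e) :
    toFr a / toFr b = ∑ m ∈ a.support,
      toFr (C (a.coeff m)) * mono ((fun l => (m l : ℤ)) - e) := by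
  conv_lhs => rw [a.as_sum]
  rw [toFr, map_sum, Finset.sum_div]
  refine Finset.sum_congr rfl fun m _ => ?_
  change algebraMap (P n k) (Fr n k) (monomial m (a.coeff m)) / toFr b = _
  rw [hb, div_eq_iff (mono_ne_zero _), mul_assoc, ← mono_add, sub_add_cancel, mono_natCast, toFr, toFr,
    ← map_mul, C_mul_monomial, mul_one]

theorem toFr_X_pow (i : Fin (n + 1)) (N : ℕ) :
    toFr ((X i : P n k) ^ N) = mono (Pi.single i (N : ℤ)) := by
  rw [mono_single, zpow_natCast, toFr, map_pow]

section Line

/-- The overlap of the two charts of the line. -/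
abbrev U01 (k : Type u) [Field k] : (CohB1.ProjSpace 1 k).Opens := stdOpen 1 k 0 ⊓ stdOpen 1 k 1

theorem η_mem_U01 : (η : ProjectiveSpectrum (CohB1.polyGrading 1 k)) ∈ U01 k :=
  ⟨η_mem_stdOpen 0, η_mem_stdOpen 1⟩

/-- The other index. -/
abbrev oth (i : Fin 2) : Fin 2 := 1 - i

/-- Polynomials as functions on a chart of the line. -/
def polyHom (i : Fin 2) : Polynomial k →+* Γ(CohB1.ProjSpace 1 k, stdOpen 1 k i) :=
  Polynomial.eval₂RingHom (cst (η_mem_stdOpen i)) (ratio i (oth i))

theorem polyHom_surjective (i : Fin 2) : Function.Surjective (polyHom (k := k) i) := by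
  intro c
  obtain ⟨N, a, ha, hv⟩ := exists_val_frac (X_mem_polyGrading 1 k i) one_pos (X_mem_polyGrading 1 k i)
    (h := 1) ((mem_homogeneousSubmodule (1 - 1) _).mpr (isHomogeneous_one _ _)) (mul_one _).symm (η_mem_stdOpen i) c
  refine ⟨∑ m ∈ a.support, Polynomial.C (a.coeff m) * Polynomial.X ^ (m (oth i)),
    val_injective (η_mem_stdOpen i) (Eq.trans ?_ hv.symm)⟩
  change valHom (η_mem_stdOpen i) (polyHom i _) = _
  rw [frac_eq_sum (toFr_X_pow i N), map_sum, map_sum]
  refine Finset.sum_congr rfl fun m hm => ?_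
  rw [polyHom, Polynomial.coe_eval₂RingHom, Polynomial.eval₂_mul, Polynomial.eval₂_C,
    Polynomial.eval₂_X_pow, map_mul, map_pow]
  change val _ (cstFun _ (a.coeff m)) * val _ (ratio i (oth i)) ^ _ = _
  rw [val_cstFun, val_ratio, mono_nsmul]
  have hdeg : m 0 + m 1 = N := by
    have := ha (mem_support_iff.mp hm)
    rw [Finsupp.weight_apply, Finsupp.sum_fintype _ _ (fun l => by simp), Fin.sum_univ_two] at this
    simpa using this
  congr 2
  funext l
  fin_cases i <;> fin_cases l <;>
    simp [oth, Pi.single_apply] <;> omega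

theorem isPrincipalIdealRing_stdOpen (i : Fin 2) :
    IsPrincipalIdealRing Γ(CohB1.ProjSpace 1 k, stdOpen 1 k i) :=
  IsPrincipalIdealRing.of_surjective (polyHom i) (polyHom_surjective i)

theorem isDomain_stdOpen (i : Fin (n + 1)) : IsDomain Γ(CohB1.ProjSpace n k, stdOpen n k i) :=
  Function.Injective.isDomain (valHom (η_mem_stdOpen i)) fun _ _ h => val_injective _ h

/-- The coordinate on the overlap. -/
def tOv : (Γ(CohB1.ProjSpace 1 k, U01 k))ˣ where
  val := rres inf_le_left (ratio 0 1)
  inv := rres inf_le_right (ratio 1 0)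
  val_inv := val_injective η_mem_U01 (by
    rw [val_mul, val_res, val_res, val_ratio, val_ratio, val_one, ← mono_add, sub_add_sub_cancel,
      sub_self, mono_zero])
  inv_val := val_injective η_mem_U01 (by
    rw [val_mul, val_res, val_res, val_ratio, val_ratio, val_one, ← mono_add, sub_add_sub_cancel,
      sub_self, mono_zero])

/-- The exponent of the coordinate. -/
abbrev e01 : Fin 2 → ℤ := Pi.single 1 1 - Pi.single 0 1

theorem valHom_tOv : valHom (k := k) η_mem_U01 (tOv (k := k)).val = mono e01 := by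
  change val η_mem_U01 (rres inf_le_left (ratio 0 1)) = _
  rw [val_res, val_ratio]

theorem map_val_zpow {A F : Type*} [CommRing A] [Field F] (φ : A →+* F) (w : Aˣ) (d : ℤ) :
    φ (w ^ d).val = φ w.val ^ d :=
  (congrArg Units.val (map_zpow (Units.map φ.toMonoidHom) w d)).trans (Units.val_zpow_eq_zpow_val _ d)

theorem val_tOv_zpow (d : ℤ) :
    valHom (k := k) η_mem_U01 ((tOv (k := k)) ^ d).val = mono (d • e01) := by
  rw [map_val_zpow, valHom_tOv, mono_zpow]

/-- Laurent polynomials as functions on the overlap. -/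
def lauHom : LaurentPolynomial k →+* Γ(CohB1.ProjSpace 1 k, U01 k) :=
  LaurentPolynomial.eval₂ (cst η_mem_U01) tOv

theorem valHom_lauHom_C_mul_T (r : k) (d : ℤ) :
    valHom η_mem_U01 (lauHom (LaurentPolynomial.C r * LaurentPolynomial.T d)) =
      toFr (C r) * mono (d • e01) := by
  rw [lauHom, LaurentPolynomial.eval₂_C_mul_T, map_mul, val_tOv_zpow]
  exact congrArg (· * _) (val_cstFun _ r)

theorem lauHom_surjective : Function.Surjective (lauHom (k := k)) := by
  have hV : U01 k = dPlus (CohB1.polyGrading 1 k) (X 0 * X 1) :=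
    (Proj.basicOpen_mul (CohB1.polyGrading 1 k) (X 0) (X 1)).symm
  suffices key : ∀ (V : (CohB1.ProjSpace 1 k).Opens) (h : (η : ProjectiveSpectrum (CohB1.polyGrading 1 k)) ∈ V),
      V = dPlus (CohB1.polyGrading 1 k) (X 0 * X 1) → ∀ c : Γ(CohB1.ProjSpace 1 k, V),
      ∃ p, valHom η_mem_U01 (lauHom p) = val h c from fun c =>
    let ⟨p, hp⟩ := key _ η_mem_U01 hV c
    ⟨p, val_injective η_mem_U01 hp⟩
  rintro V h rfl c
  obtain ⟨N, a, ha, hv⟩ := exists_val_frac
    ((mem_homogeneousSubmodule 2 _).mpr ((isHomogeneous_X k 0).mul (isHomogeneous_X k 1))) two_pos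
    (X_mem_polyGrading 1 k 0) (X_mem_polyGrading 1 k 1) rfl h c
  have hb : toFr ((X 0 * X 1 : P 1 k) ^ N) = mono (Pi.single 0 (N : ℤ) + Pi.single 1 (N : ℤ)) := by
    rw [mono_add, ← toFr_X_pow, ← toFr_X_pow, mul_pow, toFr, map_mul]
  refine ⟨∑ m ∈ a.support, LaurentPolynomial.C (a.coeff m) * LaurentPolynomial.T ((m 1 : ℤ) - N), ?_⟩
  rw [hv, frac_eq_sum hb, map_sum, map_sum]
  refine Finset.sum_congr rfl fun m hm => ?_
  rw [valHom_lauHom_C_mul_T]
  have hdeg : m 0 + m 1 = N * 2 := by
    have := ha (mem_support_iff.mp hm)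
    rw [Finsupp.weight_apply, Finsupp.sum_fintype _ _ (fun l => by simp), Fin.sum_univ_two] at this
    simpa using this
  congr 2
  funext l
  fin_cases l <;> simp [e01, Pi.single_apply] <;> omega

theorem lauHom_injective : Function.Injective (lauHom (k := k)) := by
  refine (injective_iff_map_eq_zero _).mpr fun p hp => ?_
  induction p using LaurentPolynomial.induction_on_mul_T with
  | mul_T q N =>
    have hu : IsUnit (lauHom (k := k) (LaurentPolynomial.T (-(N : ℤ)))) :=
      (IsUnit.of_mul_eq_one (LaurentPolynomial.T (N : ℤ))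
        (by rw [← LaurentPolynomial.T_add, neg_add_cancel, LaurentPolynomial.T_zero])).map lauHom
    rw [map_mul, hu.mul_left_eq_zero, lauHom, LaurentPolynomial.eval₂_toLaurent] at hp
    have h1 := congrArg (valHom (k := k) η_mem_U01) hp
    rw [map_zero, Polynomial.eval₂_eq_sum_range, map_sum] at h1
    let D := q.natDegree
    let H : P 1 k := ∑ m ∈ Finset.range (D + 1), C (q.coeff m) * (X 1 ^ m * X 0 ^ (D - m))
    have hH : toFr H = 0 := by
      have h2 : (∑ m ∈ Finset.range (D + 1), valHom η_mem_U01 (cst η_mem_U01 (q.coeff m) *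
          (tOv (k := k)).val ^ m)) * toFr ((X 0 : P 1 k) ^ D) = 0 := by
        rw [h1, zero_mul]
      rw [Finset.sum_mul] at h2
      rw [toFr, map_sum]
      refine Eq.trans (Finset.sum_congr rfl fun m hm => ?_) h2
      have hm' : m ≤ D := Nat.lt_succ_iff.mp (Finset.mem_range.mp hm)
      rw [map_mul, map_mul, map_mul (valHom η_mem_U01), map_pow (valHom η_mem_U01),
        valHom_tOv,
        show valHom η_mem_U01 (cst η_mem_U01 (q.coeff m)) = toFr (C (q.coeff m)) from val_cstFun _ _,
        mul_assoc, mono_nsmul, toFr_X_pow, ← mono_add]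
      change toFr (C (q.coeff m)) * (toFr (X 1 ^ m) * toFr (X 0 ^ (D - m))) = _
      rw [toFr_X_pow, toFr_X_pow, ← mono_add]
      congr 2
      funext l
      fin_cases l <;> simp [e01, Pi.single_apply] <;> omega
    have hH0 : H = 0 := IsFractionRing.injective (P 1 k) (Fr 1 k) (hH.trans (map_zero _).symm)
    have hq : q = 0 := by
      have h3 := congrArg (aeval (R := k) ![(1 : Polynomial k), Polynomial.X]) hH0
      rw [map_zero, map_sum] at h3
      rw [q.as_sum_range_C_mul_X_pow]
      refine Eq.trans (Finset.sum_congr rfl fun m _ => ?_) h3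
      simp
    rw [hq, map_zero, zero_mul]

end Line

end Groth.Agent.PicPn
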